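import Cfsg.Agent.Lib.Chevalley.Coef
import Cfsg.Agent.Lib.Chevalley.Types.D4

/-! Coefficient forms, type D4. -/

set_option autoImplicit false

namespace Cfsg.Agent.Chevalley.Types.CoefD4

open Cfsg.Agent.Chevalley.Coef

theorem coef_ok : coefChk Cfsg.Agent.Chevalley.Data.D4.tab [[2, 2, 1, 1], [2, 4, 2, 2], [1, 2, 2, 1], [1, 2, 1, 2]] = true := by decide +kernel

end Cfsg.Agent.Chevalley.Types.CoefD4
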