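import Cfsg.Agent.Lib.Chevalley.Cert
import Cfsg.Agent.Lib.Chevalley.Data.E6
import Cfsg.Prelude.Def_ChevE6

/-! The checks for type E6, run by the kernel. -/

set_option autoImplicit false

namespace Cfsg.Agent.Chevalley.Types.E6

open Cfsg.Lie Cfsg.Agent.Chevalley.Table Cfsg.Agent.Chevalley.Check Cfsg.Agent.Chevalley.Cert

theorem link_ok : linkChk chevE6 Cfsg.Agent.Chevalley.Data.E6.tab = true := by decide +kernel
theorem sys_ok : sysChk Cfsg.Agent.Chevalley.Data.E6.tab = true := by decide +kernel
theorem chains_ok : chainsChk Cfsg.Agent.Chevalley.Data.E6.tab chevE6 = true := by decide +kernel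
theorem add_ok : addChk Cfsg.Agent.Chevalley.Data.E6.tab = true := by decide +kernel
theorem desc_ok : descChk Cfsg.Agent.Chevalley.Data.E6.tab = true := by decide +kernel
theorem comm_ok : commChk Cfsg.Agent.Chevalley.Data.E6.tab = true := by decide +kernel
theorem short_ok : shortChk chevE6 = true := by decide +kernel
theorem refl0_ok : reflsChk Cfsg.Agent.Chevalley.Data.E6.tab 0 = true := by decide +kernel
theorem equiv0_ok : equivChk Cfsg.Agent.Chevalley.Data.E6.tab chevE6 0 = true := by decide +kernel
theorem refl1_ok : reflsChk Cfsg.Agent.Chevalley.Data.E6.tab 1 = true := by decide +kernel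
theorem equiv1_ok : equivChk Cfsg.Agent.Chevalley.Data.E6.tab chevE6 1 = true := by decide +kernel
theorem refl2_ok : reflsChk Cfsg.Agent.Chevalley.Data.E6.tab 2 = true := by decide +kernel
theorem equiv2_ok : equivChk Cfsg.Agent.Chevalley.Data.E6.tab chevE6 2 = true := by decide +kernel
theorem refl3_ok : reflsChk Cfsg.Agent.Chevalley.Data.E6.tab 3 = true := by decide +kernel
theorem equiv3_ok : equivChk Cfsg.Agent.Chevalley.Data.E6.tab chevE6 3 = true := by decide +kernel
theorem refl4_ok : reflsChk Cfsg.Agent.Chevalley.Data.E6.tab 4 = true := by decide +kernel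
theorem equiv4_ok : equivChk Cfsg.Agent.Chevalley.Data.E6.tab chevE6 4 = true := by decide +kernel
theorem refl5_ok : reflsChk Cfsg.Agent.Chevalley.Data.E6.tab 5 = true := by decide +kernel
theorem equiv5_ok : equivChk Cfsg.Agent.Chevalley.Data.E6.tab chevE6 5 = true := by decide +kernel

/-- The datum is certified. -/
theorem certified : Certified chevE6 Cfsg.Agent.Chevalley.Data.E6.tab where
  link := link_ok
  sys := sys_ok
  chains := chains_ok
  add := add_ok
  desc := desc_ok
  comm := Or.inr ⟨comm_ok, short_ok⟩
  refls := fun i hi => by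
    change i < 6 at hi
    match i, hi with
    | 0, _ => exact refl0_ok
    | 1, _ => exact refl1_ok
    | 2, _ => exact refl2_ok
    | 3, _ => exact refl3_ok
    | 4, _ => exact refl4_ok
    | 5, _ => exact refl5_ok
    | k + 6, h => omega
  equiv := fun i hi => by
    change i < 6 at hi
    match i, hi with
    | 0, _ => exact equiv0_ok
    | 1, _ => exact equiv1_ok
    | 2, _ => exact equiv2_ok
    | 3, _ => exact equiv3_ok
    | 4, _ => exact equiv4_ok
    | 5, _ => exact equiv5_ok
    | k + 6, h => omega

end Cfsg.Agent.Chevalley.Types.E6
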