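import Cfsg.Agent.Lib.Chevalley.Coef
import Cfsg.Agent.Lib.Chevalley.Types.E6

/-! Coefficient forms, type E6. -/

set_option autoImplicit false

namespace Cfsg.Agent.Chevalley.Types.CoefE6

open Cfsg.Agent.Chevalley.Coef

theorem coef_ok : coefChk Cfsg.Agent.Chevalley.Data.E6.tab [[4, 3, 5, 6, 4, 2], [3, 6, 6, 9, 6, 3], [5, 6, 10, 12, 8, 4], [6, 9, 12, 18, 12, 6], [4, 6, 8, 12, 10, 5], [2, 3, 4, 6, 5, 4]] = true := by decide +kernel

end Cfsg.Agent.Chevalley.Types.CoefE6
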