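import Cfsg.Agent.Lib.Chevalley.Coef
import Cfsg.Agent.Lib.Chevalley.Types.E7

/-! Coefficient forms, type E7. -/

set_option autoImplicit false

namespace Cfsg.Agent.Chevalley.Types.CoefE7

open Cfsg.Agent.Chevalley.Coef

theorem coef_ok : coefChk Cfsg.Agent.Chevalley.Data.E7.tab [[4, 4, 6, 8, 6, 4, 2], [4, 7, 8, 12, 9, 6, 3], [6, 8, 12, 16, 12, 8, 4], [8, 12, 16, 24, 18, 12, 6], [6, 9, 12, 18, 15, 10, 5], [4, 6, 8, 12, 10, 8, 4], [2, 3, 4, 6, 5, 4, 3]] = true := by decide +kernel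

end Cfsg.Agent.Chevalley.Types.CoefE7
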