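import Cfsg.Agent.Lib.Chevalley.Coef
import Cfsg.Agent.Lib.Chevalley.Types.F4

/-! Coefficient forms, type F4. -/

set_option autoImplicit false

namespace Cfsg.Agent.Chevalley.Types.CoefF4

open Cfsg.Agent.Chevalley.Coef

theorem coef_ok : coefChk Cfsg.Agent.Chevalley.Data.F4.tab [[2, 3, 4, 2], [3, 6, 8, 4], [2, 4, 6, 3], [1, 2, 3, 2]] = true := by decide +kernel

end Cfsg.Agent.Chevalley.Types.CoefF4
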