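import Cfsg.Agent.Lib.Chevalley.Types.CoefG2
import Cfsg.Agent.Lib.Chevalley.Types.CoefB2
import Cfsg.Agent.Lib.Chevalley.Types.CoefD4
import Cfsg.Agent.Lib.Chevalley.Types.CoefF4
import Cfsg.Agent.Lib.Chevalley.Types.CoefE6
import Cfsg.Agent.Lib.Chevalley.Types.CoefE7
import Cfsg.Agent.Lib.Chevalley.Types.CoefE8

/-! Coefficient forms for all seven data. -/

set_option autoImplicit false

namespace Cfsg.Agent.Chevalley.Types.CoefAll

open Cfsg.Lie Cfsg.Agent.Chevalley.Table Cfsg.Agent.Chevalley.Cert Cfsg.Agent.Chevalley.Coef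

theorem exists_certified {D : ChevalleyDatum}
    (hD : D ∈ [chevG2, chevB2, chevD4, chevF4, chevE6, chevE7, chevE8]) :
    ∃ (T : Tab) (N : List (List ℤ)), Certified D T ∧ coefChk T N = true := by
  simp only [List.mem_cons, List.not_mem_nil, or_false] at hD
  rcases hD with rfl | rfl | rfl | rfl | rfl | rfl | rfl
  exacts [⟨_, _, G2.certified, CoefG2.coef_ok⟩, ⟨_, _, B2.certified, CoefB2.coef_ok⟩, ⟨_, _, D4.certified, CoefD4.coef_ok⟩, ⟨_, _, F4.certified, CoefF4.coef_ok⟩, ⟨_, _, E6.certified, CoefE6.coef_ok⟩, ⟨_, _, E7.certified, CoefE7.coef_ok⟩, ⟨_, _, E8.certified, CoefE8.coef_ok⟩]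

end Cfsg.Agent.Chevalley.Types.CoefAll
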