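import Cfsg.Agent.Lib.Chevalley.StKernel
import Cfsg.Agent.Lib.Chevalley.Types.CoefAll

/-! Certificates for the covering argument, all seven data. -/

set_option autoImplicit false

namespace Cfsg.Agent.Chevalley.Types.StCerts

open Cfsg.Lie Cfsg.Agent.Chevalley.Table Cfsg.Agent.Chevalley.Cert Cfsg.Agent.Chevalley.StConj
  Cfsg.Agent.Chevalley.StKernel

theorem conj_G2 : certsChk Cfsg.Agent.Chevalley.Data.G2.tab [(5, 8, [1]), (1, 11, [1, 0])] = true := by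
  decide +kernel

theorem conj_B2 : certsChk Cfsg.Agent.Chevalley.Data.B2.tab [(3, 6, [1]), (2, 7, [0])] = true := by
  decide +kernel

theorem conj_D4 : certsChk Cfsg.Agent.Chevalley.Data.D4.tab [(9, 19, [1]), (5, 19, [0]), (9, 16, [1]), (9, 15, [1])] = true := by
  decide +kernel

theorem conj_F4 : certsChk Cfsg.Agent.Chevalley.Data.F4.tab [(20, 34, [1]), (14, 34, [0]), (23, 26, [3]), (22, 26, [2])] = true := by
  decide +kernel

theorem conj_E6 : certsChk Cfsg.Agent.Chevalley.Data.E6.tab [(29, 57, [2]), (32, 47, [3]), (15, 57, [0]), (25, 47, [1]), (32, 40, [3]), (34, 38, [4])] = true := by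
  decide +kernel

theorem conj_E7 : certsChk Cfsg.Agent.Chevalley.Data.E7.tab [(52, 94, [2]), (56, 79, [3]), (32, 94, [0]), (47, 79, [1]), (56, 70, [3]), (59, 67, [4]), (61, 65, [5])] = true := by
  decide +kernel

theorem conj_E8 : certsChk Cfsg.Agent.Chevalley.Data.E8.tab [(104, 163, [2]), (109, 142, [3]), (77, 163, [0]), (98, 142, [1]), (109, 131, [3]), (113, 127, [4]), (116, 124, [5]), (118, 122, [6])] = true := by
  decide +kernel

theorem exists_hasCerts {D : ChevalleyDatum}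
    (hD : D ∈ [chevG2, chevB2, chevD4, chevF4, chevE6, chevE7, chevE8]) :
    ∃ T : Tab, Certified D T ∧ HasCerts T := by
  simp only [List.mem_cons, List.not_mem_nil, or_false] at hD
  rcases hD with rfl | rfl | rfl | rfl | rfl | rfl | rfl
  exacts [⟨_, G2.certified, ⟨_, CoefG2.coef_ok⟩, ⟨_, conj_G2⟩⟩, ⟨_, B2.certified, ⟨_, CoefB2.coef_ok⟩, ⟨_, conj_B2⟩⟩, ⟨_, D4.certified, ⟨_, CoefD4.coef_ok⟩, ⟨_, conj_D4⟩⟩, ⟨_, F4.certified, ⟨_, CoefF4.coef_ok⟩, ⟨_, conj_F4⟩⟩, ⟨_, E6.certified, ⟨_, CoefE6.coef_ok⟩, ⟨_, conj_E6⟩⟩, ⟨_, E7.certified, ⟨_, CoefE7.coef_ok⟩, ⟨_, conj_E7⟩⟩, ⟨_, E8.certified, ⟨_, CoefE8.coef_ok⟩, ⟨_, conj_E8⟩⟩]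

end Cfsg.Agent.Chevalley.Types.StCerts
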