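import Cfsg.Agent.Lib.Chevalley.GraphAut
import Cfsg.Agent.Lib.Chevalley.Types.StCerts

/-! Tables of the graph automorphisms. -/

set_option autoImplicit false

namespace Cfsg.Agent.Chevalley.Types.GAut

open Cfsg.Agent.Chevalley.GraphAut

/-- The table E6. -/
def tabE6 : GTab :=
  ⟨[0, 1, 2, 5, 16, 3, 6, 17, 8, 19, 22, 11, 26, 30, 33, 35, 4, 7, 18, 9, 20, 23, 10, 21, 24, 25, 12, 27, 31, 34, 13, 28, 32, 14, 29, 15, 56, 42, 57, 39, 43, 58, 37, 40, 44, 59, 46, 47, 50, 61, 48, 51, 62, 53, 64, 67, 36, 38, 41, 45, 60, 49, 52, 63, 54, 65, 68, 55, 66, 69, 70, 71],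
   [1, 1, 1, 1, -1, 1, 1, -1, 1, -1, -1, 1, -1, 1, -1, 1, -1, -1, 1, -1, 1, 1, -1, 1, 1, 1, -1, 1, -1, 1, 1, -1, 1, -1, 1, 1, 1, 1, -1, 1, -1, 1, 1, -1, 1, -1, 1, 1, 1, -1, 1, 1, -1, 1, -1, -1, 1, -1, 1, -1, 1, -1, -1, 1, -1, 1, 1, -1, 1, 1, 1, 1],
   [1, 1, 1, 1, 1, 1, 1, 1, 1, 1, 1, 1, 1, 1, 1, 1, 1, 1, 1, 1, 1, 1, 1, 1, 1, 1, 1, 1, 1, 1, 1, 1, 1, 1, 1, 1, 1, 1, 1, 1, 1, 1, 1, 1, 1, 1, 1, 1, 1, 1, 1, 1, 1, 1, 1, 1, 1, 1, 1, 1, 1, 1, 1, 1, 1, 1, 1, 1, 1, 1, 1, 1]⟩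

theorem rel_E6 : relChk Cfsg.Agent.Chevalley.Data.E6.tab 0 tabE6 = true := by decide +kernel

theorem onto_E6 : ontoChk Cfsg.Agent.Chevalley.Data.E6.tab tabE6 = true := by decide +kernel

theorem simple_E6 : simpleChk Cfsg.Agent.Chevalley.Data.E6.tab tabE6
    [(5, 1), (1, 1), (4, 1), (3, 1), (2, 1), (0, 1)] = true := by decide +kernel

/-- The table D4a. -/
def tabD4a : GTab :=
  ⟨[0, 1, 6, 2, 7, 10, 3, 8, 4, 9, 11, 5, 18, 12, 14, 19, 15, 20, 13, 16, 21, 17, 22, 23],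
   [1, 1, -1, 1, -1, 1, -1, 1, -1, 1, 1, 1, 1, 1, 1, -1, 1, -1, 1, -1, 1, -1, 1, 1],
   [1, 1, 1, 1, 1, 1, 1, 1, 1, 1, 1, 1, 1, 1, 1, 1, 1, 1, 1, 1, 1, 1, 1, 1]⟩

theorem rel_D4a : relChk Cfsg.Agent.Chevalley.Data.D4.tab 0 tabD4a = true := by decide +kernel

theorem onto_D4a : ontoChk Cfsg.Agent.Chevalley.Data.D4.tab tabD4a = true := by decide +kernel

theorem simple_D4a : simpleChk Cfsg.Agent.Chevalley.Data.D4.tab tabD4a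
    [(2, 1), (1, 1), (3, 1), (0, 1)] = true := by decide +kernel

/-- The table D4b. -/
def tabD4b : GTab :=
  ⟨[0, 1, 3, 6, 8, 11, 2, 4, 7, 9, 5, 10, 13, 18, 14, 16, 19, 21, 12, 15, 17, 20, 22, 23],
   [1, 1, 1, -1, -1, 1, -1, -1, 1, 1, 1, 1, 1, 1, 1, 1, -1, -1, 1, -1, -1, 1, 1, 1],
   [1, 1, 1, 1, 1, 1, 1, 1, 1, 1, 1, 1, 1, 1, 1, 1, 1, 1, 1, 1, 1, 1, 1, 1]⟩

theorem rel_D4b : relChk Cfsg.Agent.Chevalley.Data.D4.tab 0 tabD4b = true := by decide +kernel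

theorem onto_D4b : ontoChk Cfsg.Agent.Chevalley.Data.D4.tab tabD4b = true := by decide +kernel

theorem simple_D4b : simpleChk Cfsg.Agent.Chevalley.Data.D4.tab tabD4b
    [(3, 1), (1, 1), (0, 1), (2, 1)] = true := by decide +kernel

/-- The table B2. -/
def tabB2 : GTab :=
  ⟨[1, 0, 3, 2, 5, 4, 7, 6],
   [1, 1, 1, 1, 1, 1, 1, 1],
   [1, 2, 2, 1, 1, 2, 2, 1]⟩

theorem rel_B2 : relChk Cfsg.Agent.Chevalley.Data.B2.tab 2 tabB2 = true := by decide +kernel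

theorem onto_B2 : ontoChk Cfsg.Agent.Chevalley.Data.B2.tab tabB2 = true := by decide +kernel

theorem simple_B2 : simpleChk Cfsg.Agent.Chevalley.Data.B2.tab tabB2
    [(1, 2), (0, 1)] = true := by decide +kernel

/-- The table F4. -/
def tabF4 : GTab :=
  ⟨[3, 7, 8, 0, 9, 11, 18, 1, 2, 4, 15, 5, 16, 21, 23, 10, 12, 19, 6, 17, 22, 13, 20, 14, 33, 27, 34, 25, 30, 41, 28, 35, 37, 24, 26, 31, 42, 32, 43, 45, 46, 29, 36, 38, 47, 39, 40, 44],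
   [1, 1, 1, 1, 1, 1, 1, 1, 1, 1, 1, 1, 1, 1, 1, 1, 1, 1, 1, 1, 1, 1, 1, 1, 1, 1, 1, 1, 1, 1, 1, 1, 1, 1, 1, 1, 1, 1, 1, 1, 1, 1, 1, 1, 1, 1, 1, 1],
   [1, 1, 1, 2, 1, 1, 1, 2, 2, 2, 2, 2, 2, 2, 2, 1, 1, 1, 2, 2, 2, 1, 1, 1, 1, 1, 1, 2, 2, 2, 1, 1, 1, 2, 2, 2, 2, 2, 2, 2, 2, 1, 1, 1, 2, 1, 1, 1]⟩

theorem rel_F4 : relChk Cfsg.Agent.Chevalley.Data.F4.tab 2 tabF4 = true := by decide +kernel

theorem onto_F4 : ontoChk Cfsg.Agent.Chevalley.Data.F4.tab tabF4 = true := by decide +kernel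

theorem simple_F4 : simpleChk Cfsg.Agent.Chevalley.Data.F4.tab tabF4
    [(3, 2), (2, 2), (1, 1), (0, 1)] = true := by decide +kernel

/-- The table G2. -/
def tabG2 : GTab :=
  ⟨[2, 3, 0, 1, 5, 4, 7, 6, 10, 11, 8, 9],
   [1, 1, 1, 1, 1, 1, 1, 1, 1, 1, 1, 1],
   [1, 1, 3, 3, 3, 1, 1, 3, 3, 3, 1, 1]⟩

theorem rel_G2 : relChk Cfsg.Agent.Chevalley.Data.G2.tab 3 tabG2 = true := by decide +kernel

theorem onto_G2 : ontoChk Cfsg.Agent.Chevalley.Data.G2.tab tabG2 = true := by decide +kernel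

theorem simple_G2 : simpleChk Cfsg.Agent.Chevalley.Data.G2.tab tabG2
    [(1, 3), (0, 1)] = true := by decide +kernel

end Cfsg.Agent.Chevalley.Types.GAut
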