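import Cfsg.Agent.Lib.Chevalley.Data.WE6
import Cfsg.Agent.Lib.Chevalley.Data.E6

/-! The checks of the enumeration of the Weyl group of type E6, run by the kernel. -/

set_option autoImplicit false

namespace Cfsg.Agent.Chevalley.Types.WE6

open Cfsg.Agent.Chevalley.WeylEnum

theorem lev1_ok : levChk Cfsg.Agent.Chevalley.Data.E6.tab Cfsg.Agent.Chevalley.Data.WE6.lev1 [] = true := by decide +kernel
theorem lev2_ok : levChk Cfsg.Agent.Chevalley.Data.E6.tab Cfsg.Agent.Chevalley.Data.WE6.lev2 [4] = true := by decide +kernel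
theorem lev3_ok : levChk Cfsg.Agent.Chevalley.Data.E6.tab Cfsg.Agent.Chevalley.Data.WE6.lev3 [4, 3] = true := by decide +kernel
theorem lev4_ok : levChk Cfsg.Agent.Chevalley.Data.E6.tab Cfsg.Agent.Chevalley.Data.WE6.lev4 [4, 3, 2] = true := by decide +kernel
theorem lev5_ok : levChk Cfsg.Agent.Chevalley.Data.E6.tab Cfsg.Agent.Chevalley.Data.WE6.lev5 [4, 3, 2, 1] = true := by decide +kernel
theorem lev6_ok : levChk Cfsg.Agent.Chevalley.Data.E6.tab Cfsg.Agent.Chevalley.Data.WE6.lev6 [4, 3, 2, 1, 5] = true := by decide +kernel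

theorem chain_ok :
    chainLevChk Cfsg.Agent.Chevalley.Data.E6.tab Cfsg.Agent.Chevalley.Data.WE6.chain = true := by
  simp only [Cfsg.Agent.Chevalley.Data.WE6.chain, chainLevChk, Bool.and_eq_true, Bool.and_true]
  exact ⟨lev6_ok, lev5_ok, lev4_ok, lev3_ok, lev2_ok, lev1_ok⟩

theorem top_ok :
    topChk Cfsg.Agent.Chevalley.Data.E6.tab Cfsg.Agent.Chevalley.Data.WE6.chain = true := by decide +kernel

end Cfsg.Agent.Chevalley.Types.WE6
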