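import Cfsg.Agent.Lib.Chevalley.Poincare
import Cfsg.Agent.Lib.Chevalley.Types.F4
import Cfsg.Agent.Lib.Chevalley.Types.WF4

/-! The orders of the torus and of the group, type F4. -/

set_option autoImplicit false

namespace Cfsg.Agent.Chevalley.Types.OrderF4

open Cfsg.Lie Cfsg.Agent.Chevalley.TorusCard Cfsg.Agent.Chevalley.Poincare

/-- Left transformation. -/
def P : Matrix (Fin 4) (Fin 4) ℤ := !![-1, 0, 0, 0; -2, -1, 0, 0; -2, -2, -1, 0; 2, 3, 2, 1]
/-- Its inverse. -/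
def P' : Matrix (Fin 4) (Fin 4) ℤ := !![-1, 0, 0, 0; 2, -1, 0, 0; -2, 2, -1, 0; 0, -1, 2, 1]
/-- Right transformation. -/
def Q : Matrix (Fin 4) (Fin 4) ℤ := !![0, 0, 0, 1; 1, 0, 0, 2; 0, 1, 0, 3; 0, 0, 1, 2]
/-- Its inverse. -/
def Q' : Matrix (Fin 4) (Fin 4) ℤ := !![-2, 1, 0, 0; -3, 0, 1, 0; -2, 0, 0, 1; 1, 0, 0, 0]
/-- The elementary divisors. -/
def ed : Fin 4 → ℕ := ![1, 1, 1, 1]

theorem hP : P' * P = 1 := by decide +kernel
theorem hQ : Q * Q' = 1 := by decide +kernel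
theorem hQ' : Q' * Q = 1 := by decide +kernel
/-- The Cartan matrix, transposed. -/
def M : Matrix (Fin 4) (Fin 4) ℤ := cartanMat chevF4

theorem hdiag : P * M * Q =
    Matrix.diagonal fun i => (ed i : ℤ) := by decide +kernel

theorem poly_ok :
    polyChk Cfsg.Agent.Chevalley.Data.WF4.chain [2, 6, 8, 12] = true := by decide +kernel

theorem card_H (F : Type*) [Field F] [Fintype F] :
    (∏ i, Nat.gcd (Fintype.card F - 1) (ed i)) * Nat.card (chevF4.diagonalSubgroup F) =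
      (Fintype.card F - 1) ^ 4 :=
  Cfsg.Agent.Chevalley.TorusCard.card_H (D := chevF4) (Cfsg.Agent.Chevalley.Types.F4.certified)
    hP hQ hQ' hdiag

theorem card_group (F : Type*) [Field F] [Fintype F] :
    (∏ i, Nat.gcd (Fintype.card F - 1) (ed i)) * Nat.card (chevF4.group F) =
      Fintype.card F ^ 24 * (([2, 6, 8, 12] : List ℕ).map fun d => Fintype.card F ^ d - 1).prod :=
  order_formula (D := chevF4) Cfsg.Agent.Chevalley.Types.F4.certified
    Cfsg.Agent.Chevalley.Types.WF4.chain_ok Cfsg.Agent.Chevalley.Types.WF4.top_ok poly_ok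
    (by decide +kernel) (card_H F) (by decide +kernel)

end Cfsg.Agent.Chevalley.Types.OrderF4
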