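import Cfsg.Agent.Lib.Chevalley.Poincare
import Cfsg.Agent.Lib.Chevalley.Types.E8
import Cfsg.Agent.Lib.Chevalley.Types.WE8

/-! The orders of the torus and of the group, type E8. -/

set_option autoImplicit false

namespace Cfsg.Agent.Chevalley.Types.OrderE8

open Cfsg.Lie Cfsg.Agent.Chevalley.TorusCard Cfsg.Agent.Chevalley.Poincare

/-- Left transformation. -/
def P : Matrix (Fin 8) (Fin 8) ℤ := !![-1, 0, 0, 0, 0, 0, 0, 0; 0, -1, 0, 0, 0, 0, 0, 0; 1, -2, 0, -1, 0, 0, 0, 0; 2, -3, 0, -2, -1, 0, 0, 0; 3, -4, 0, -3, -2, -1, 0, 0; 4, -5, 0, -4, -3, -2, -1, 0; -2, 1, -1, 0, 0, 0, 0, 0; -3, -2, -4, -5, -4, -3, -2, -1]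
/-- Its inverse. -/
def P' : Matrix (Fin 8) (Fin 8) ℤ := !![-1, 0, 0, 0, 0, 0, 0, 0; 0, -1, 0, 0, 0, 0, 0, 0; 2, -1, 0, 0, 0, 0, -1, 0; -1, 2, -1, 0, 0, 0, 0, 0; 0, -1, 2, -1, 0, 0, 0, 0; 0, 0, -1, 2, -1, 0, 0, 0; 0, 0, 0, -1, 2, -1, 0, 0; 0, 0, 0, 0, -1, 2, 4, -1]
/-- Right transformation. -/
def Q : Matrix (Fin 8) (Fin 8) ℤ := !![0, 0, 0, 0, 0, 0, 1, -2; 0, 0, 0, 0, 0, 0, 2, -3; 1, 0, 0, 0, 0, 0, 2, -4; 0, 1, 0, 0, 0, 0, 4, -6; 0, 0, 1, 0, 0, 0, 4, -5; 0, 0, 0, 1, 0, 0, 4, -4; 0, 0, 0, 0, 1, 0, 4, -3; 0, 0, 0, 0, 0, 1, 4, -2]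
/-- Its inverse. -/
def Q' : Matrix (Fin 8) (Fin 8) ℤ := !![-2, 0, 1, 0, 0, 0, 0, 0; 0, -2, 0, 1, 0, 0, 0, 0; 2, -3, 0, 0, 1, 0, 0, 0; 4, -4, 0, 0, 0, 1, 0, 0; 6, -5, 0, 0, 0, 0, 1, 0; 8, -6, 0, 0, 0, 0, 0, 1; -3, 2, 0, 0, 0, 0, 0, 0; -2, 1, 0, 0, 0, 0, 0, 0]
/-- The elementary divisors. -/
def ed : Fin 8 → ℕ := ![1, 1, 1, 1, 1, 1, 1, 1]

theorem hP : P' * P = 1 := by decide +kernel
theorem hQ : Q * Q' = 1 := by decide +kernel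
theorem hQ' : Q' * Q = 1 := by decide +kernel
/-- The Cartan matrix, transposed. -/
def M : Matrix (Fin 8) (Fin 8) ℤ := cartanMat chevE8

theorem hdiag : P * M * Q =
    Matrix.diagonal fun i => (ed i : ℤ) := by decide +kernel

theorem poly_ok :
    polyChk Cfsg.Agent.Chevalley.Data.WE8.chain [2, 8, 12, 14, 18, 20, 24, 30] = true := by decide +kernel

theorem card_H (F : Type*) [Field F] [Fintype F] :
    (∏ i, Nat.gcd (Fintype.card F - 1) (ed i)) * Nat.card (chevE8.diagonalSubgroup F) =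
      (Fintype.card F - 1) ^ 8 :=
  Cfsg.Agent.Chevalley.TorusCard.card_H (D := chevE8) (Cfsg.Agent.Chevalley.Types.E8.certified)
    hP hQ hQ' hdiag

theorem card_group (F : Type*) [Field F] [Fintype F] :
    (∏ i, Nat.gcd (Fintype.card F - 1) (ed i)) * Nat.card (chevE8.group F) =
      Fintype.card F ^ 120 * (([2, 8, 12, 14, 18, 20, 24, 30] : List ℕ).map fun d => Fintype.card F ^ d - 1).prod :=
  order_formula (D := chevE8) Cfsg.Agent.Chevalley.Types.E8.certified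
    Cfsg.Agent.Chevalley.Types.WE8.chain_ok Cfsg.Agent.Chevalley.Types.WE8.top_ok poly_ok
    (by decide +kernel) (card_H F) (by decide +kernel)

end Cfsg.Agent.Chevalley.Types.OrderE8
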