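import Cfsg.Agent.Lib.Chevalley.Types.G2
import Cfsg.Agent.Lib.Chevalley.Types.B2
import Cfsg.Agent.Lib.Chevalley.Types.D4
import Cfsg.Agent.Lib.Chevalley.Types.F4
import Cfsg.Agent.Lib.Chevalley.Types.E6
import Cfsg.Agent.Lib.Chevalley.Types.E7
import Cfsg.Agent.Lib.Chevalley.Types.E8

/-! All seven data are certified. -/

set_option autoImplicit false

namespace Cfsg.Agent.Chevalley.Types.All

open Cfsg.Lie Cfsg.Agent.Chevalley.Table Cfsg.Agent.Chevalley.Cert

theorem exists_certified {D : ChevalleyDatum}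
    (hD : D ∈ [chevG2, chevB2, chevD4, chevF4, chevE6, chevE7, chevE8]) : ∃ T : Tab, Certified D T := by
  simp only [List.mem_cons, List.not_mem_nil, or_false] at hD
  rcases hD with rfl | rfl | rfl | rfl | rfl | rfl | rfl
  exacts [⟨_, G2.certified⟩, ⟨_, B2.certified⟩, ⟨_, D4.certified⟩, ⟨_, F4.certified⟩,
    ⟨_, E6.certified⟩, ⟨_, E7.certified⟩, ⟨_, E8.certified⟩]

end Cfsg.Agent.Chevalley.Types.All
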