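import Cfsg.Agent.Lib.Chevalley.Perfect
import Cfsg.Agent.Lib.Chevalley.Types.G2

/-! Perfectness and simplicity, type G2. -/

set_option autoImplicit false

namespace Cfsg.Agent.Chevalley.Types.SimpleG2

open Cfsg.Lie Cfsg.Agent.Chevalley.Perfect

theorem conn_ok : connChk Cfsg.Agent.Chevalley.Data.G2.tab [0, 1] = true := by decide +kernel

theorem toral_ok : toralChk Cfsg.Agent.Chevalley.Data.G2.tab [0, 1] = true := by decide +kernel

theorem perfect (F : Type*) [Field F] (ha : ∃ a : F, a ≠ 0 ∧ a ≠ 1) :
    commutator (chevG2.group F) = ⊤ :=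
  perfect_of_simples Cfsg.Agent.Chevalley.Types.G2.certified fun i hi =>
    toral_of_chk Cfsg.Agent.Chevalley.Types.G2.certified toral_ok (by change i < 2 at hi; simp; omega) ha

theorem simple_group (F : Type*) [Field F] (ha : ∃ a : F, a ≠ 0 ∧ a ≠ 1) :
    IsSimpleGroup (chevG2.group F) ∧ ¬ IsMulCommutative (chevG2.group F) :=
  isSimple_group Cfsg.Agent.Chevalley.Types.G2.certified (by decide) conn_ok
    (fun i hi => by change i < 2 at hi; simp; omega)
    (fun i hi => by show i < 2; simp at hi; omega) (perfect F ha)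

end Cfsg.Agent.Chevalley.Types.SimpleG2
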