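import Cfsg.Agent.Lib.Chevalley.Perfect
import Cfsg.Agent.Lib.Chevalley.Types.D4

/-! Perfectness and simplicity, type D4. -/

set_option autoImplicit false

namespace Cfsg.Agent.Chevalley.Types.SimpleD4

open Cfsg.Lie Cfsg.Agent.Chevalley.Perfect

theorem conn_ok : connChk Cfsg.Agent.Chevalley.Data.D4.tab [0, 2, 1, 3] = true := by decide +kernel

theorem single_ok : singleChk Cfsg.Agent.Chevalley.Data.D4.tab [0, 1, 2, 3] = true := by decide +kernel

theorem perfect (F : Type*) [Field F] : commutator (chevD4.group F) = ⊤ :=
  perfect_of_simples Cfsg.Agent.Chevalley.Types.D4.certified fun i hi =>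
    single_of_chk Cfsg.Agent.Chevalley.Types.D4.certified single_ok (by change i < 4 at hi; simp; omega)

theorem simple_group (F : Type*) [Field F] :
    IsSimpleGroup (chevD4.group F) ∧ ¬ IsMulCommutative (chevD4.group F) :=
  isSimple_group Cfsg.Agent.Chevalley.Types.D4.certified (by decide) conn_ok
    (fun i hi => by change i < 4 at hi; simp; omega)
    (fun i hi => by show i < 4; simp at hi; omega) (perfect F)

end Cfsg.Agent.Chevalley.Types.SimpleD4
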