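import Cfsg.Agent.Lib.Chevalley.Perfect
import Cfsg.Agent.Lib.Chevalley.Types.B2

/-! Perfectness and simplicity, type B2. -/

set_option autoImplicit false

namespace Cfsg.Agent.Chevalley.Types.SimpleB2

open Cfsg.Lie Cfsg.Agent.Chevalley.Perfect

theorem conn_ok : connChk Cfsg.Agent.Chevalley.Data.B2.tab [0, 1] = true := by decide +kernel

theorem toral_ok : toralChk Cfsg.Agent.Chevalley.Data.B2.tab [0] = true := by decide +kernel

theorem word_eq : chevB2.commTerms 5 4 = [(6, -1, 1, 1), (7, -1, 2, 1)] := by decide +kernel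
theorem idx : chevB2.simple 0 = 5 ∧ chevB2.simple 1 = 4 ∧ chevB2.reflectRoot 1 5 = 6 ∧
    chevB2.reflectRoot 0 7 = 4 ∧ chevB2.neg 5 ≠ 4 := by decide +kernel

theorem perfect (F : Type*) [Field F] (ha : ∃ a : F, a ≠ 0 ∧ a ≠ 1) :
    commutator (chevB2.group F) = ⊤ := by
  refine perfect_of_simples Cfsg.Agent.Chevalley.Types.B2.certified fun i hi => ?_
  change i < 2 at hi
  obtain ⟨e0, e1, e2, e3, e4⟩ := idx
  have h0 : InDer chevB2 F (chevB2.simple 0) := toral_of_chk Cfsg.Agent.Chevalley.Types.B2.certified toral_ok (by simp) ha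
  have h6 : InDer chevB2 F 6 := by
    rw [← e2]
    exact inDer_reflect Cfsg.Agent.Chevalley.Types.B2.certified (by decide) (by decide) (e0 ▸ h0)
  match i, hi with
  | 0, _ => exact h0
  | 1, _ =>
    rw [e1, ← e3]
    refine inDer_reflect Cfsg.Agent.Chevalley.Types.B2.certified (by decide) (by decide) ?_
    refine inDer_word Cfsg.Agent.Chevalley.Types.B2.certified (a := 5) (b := 4) (by decide) (by decide)
      (by decide) (by decide) (Ne.symm e4) fun u => ?_
    refine ⟨[(6, -u)], [], 1, -u, ?_, ?_⟩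
    · simp [ChevalleyDatum.commWord, word_eq]
    · intro p hp
      simp only [List.append_nil, List.mem_singleton] at hp
      subst hp
      exact ⟨(by decide : (6 : ℕ) < 8), h6⟩
  | k + 2, h => omega

theorem simple_group (F : Type*) [Field F] (ha : ∃ a : F, a ≠ 0 ∧ a ≠ 1) :
    IsSimpleGroup (chevB2.group F) ∧ ¬ IsMulCommutative (chevB2.group F) :=
  isSimple_group Cfsg.Agent.Chevalley.Types.B2.certified (by decide) conn_ok
    (fun i hi => by change i < 2 at hi; simp; omega)
    (fun i hi => by show i < 2; simp at hi; omega) (perfect F ha)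

end Cfsg.Agent.Chevalley.Types.SimpleB2
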