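import Cfsg.Agent.Lib.Chevalley.WeylGroup
import Cfsg.Agent.Lib.Chevalley.Types.F4
import Cfsg.Agent.Lib.Chevalley.Types.WF4
import Cfsg.Prelude.Def_ChevStructure

/-! The Weyl group of type F4 as a Coxeter group. -/

set_option autoImplicit false

namespace Cfsg.Agent.Chevalley.Types.CoxF4

open Cfsg.Lie Cfsg.Agent.Chevalley.WeylGroup

theorem ord_ok : ∀ i j : Fin 4,
    ordChk Cfsg.Agent.Chevalley.Data.F4.tab i j (CoxeterMatrix.F₄ i j) = true := by decide +kernel

theorem elt_ok :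
    wordOrdChk Cfsg.Agent.Chevalley.Data.F4.tab [0, 1, 2, 3] 12 = true := by decide +kernel

theorem exists_iso : ∃ e : WG Cfsg.Agent.Chevalley.Types.F4.certified ≃* (CoxeterMatrix.F₄).Group,
    ∀ i : Fin 4, e (gW Cfsg.Agent.Chevalley.Types.F4.certified i) = (CoxeterMatrix.F₄).simple i :=
  Cfsg.Agent.Chevalley.WeylGroup.exists_iso (D := chevF4) Cfsg.Agent.Chevalley.Types.F4.certified
    CoxeterMatrix.F₄ ord_ok

theorem card_group :
    Nat.card (CoxeterMatrix.F₄).Group = (Cfsg.Agent.Chevalley.Data.WF4.chain.map fun L => L.reps.length).prod := by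
  obtain ⟨e, -⟩ := exists_iso
  rw [← Nat.card_congr e.toEquiv]
  exact card_WG _ Cfsg.Agent.Chevalley.Types.WF4.chain_ok Cfsg.Agent.Chevalley.Types.WF4.top_ok

theorem card_eq : Nat.card (CoxeterMatrix.F₄).Group = 1152 :=
  card_group.trans (by decide +kernel)

theorem orderOf_coxeter :
    orderOf ((List.finRange 4).map (CoxeterMatrix.F₄).simple).prod = 12 := by
  obtain ⟨e, he⟩ := exists_iso
  exact orderOf_prod_simple (D := chevF4) Cfsg.Agent.Chevalley.Types.F4.certified e he elt_ok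

theorem exists_hom_N (F : Type*) [Field F] :
    ∃ φ : ↥(chevF4.monomialSubgroup F) →* (CoxeterMatrix.F₄).Group, Function.Surjective φ ∧
      φ.ker = (chevF4.diagonalSubgroup F).subgroupOf (chevF4.monomialSubgroup F) ∧
      ∀ (i : Fin 4) (g : ↥(chevF4.monomialSubgroup F)),
        ((g : GL chevF4.Idx F) : Matrix chevF4.Idx chevF4.Idx F) =
          chevF4.nMat F (chevF4.simple i) 1 → φ g = (CoxeterMatrix.F₄).simple i := by
  obtain ⟨e, he⟩ := exists_iso
  obtain ⟨φ, hs, hk, hgen⟩ := Cfsg.Agent.Chevalley.WeylGroup.exists_hom_N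
    (F := F) Cfsg.Agent.Chevalley.Types.F4.certified
  refine ⟨e.toMonoidHom.comp φ, e.surjective.comp hs, ?_, fun i g hg => ?_⟩
  · rw [← hk]
    ext x
    rw [MonoidHom.mem_ker, MonoidHom.mem_ker]
    exact e.map_eq_one_iff
  · show e (φ g) = _
    rw [hgen i g (Units.ext (hg.trans (Cfsg.Agent.Chevalley.Group.coe_ng _ _ _).symm))]
    exact he i

end Cfsg.Agent.Chevalley.Types.CoxF4
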