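import Cfsg.Agent.Lib.Chevalley.WeylCoxeter
import Cfsg.Agent.Lib.Chevalley.Types.CoxB2
import Cfsg.Agent.Lib.Chevalley.Types.CoxG2
import Cfsg.Agent.Lib.Chevalley.Types.CoxD4
import Cfsg.Agent.Lib.Chevalley.Types.CoxF4
import Cfsg.Agent.Lib.Chevalley.Types.CoxE6
import Cfsg.Agent.Lib.Chevalley.Types.CoxE7
import Cfsg.Agent.Lib.Chevalley.Types.CoxE8

/-!
The centres of the exceptional Weyl groups and their generation by a Coxeter element with few
reflections: the tables and their checks.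
-/

set_option autoImplicit false
set_option maxRecDepth 4000

namespace Cfsg.Agent.Chevalley.Types.CoxeterData

open Cfsg.Lie Cfsg.Agent.Chevalley Cfsg.Agent.Chevalley.Group Cfsg.Agent.Chevalley.Unip Cfsg.Agent.Chevalley.WeylGroup

/-! ### B2 -/

/-- All fundamental reflections in order. -/
abbrev CB2 : List (Fin 2) := List.finRange 2

/-- The words for the fundamental reflections. -/
def blocksB2 (j : Fin 2) : List (List (Fin 2)) :=
  ([[[0]],
    [[0], CB2]] : List (List (List (Fin 2)))).getD j []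

theorem genB2_ok : (∀ j : Fin 2, ∀ b ∈ blocksB2 j, b = CB2 ∨ b = CB2.reverse ∨ ∃ t ∈ ([0] : List (Fin 2)), b = [t]) ∧
    ∀ j k : Fin 2, WeylGroup.actT Cfsg.Agent.Chevalley.Data.B2.tab ((blocksB2 j).flatten.map Fin.val) (Cfsg.Agent.Chevalley.Data.B2.tab.simple k) = Cfsg.Agent.Chevalley.Data.B2.tab.refl j (Cfsg.Agent.Chevalley.Data.B2.tab.simple k) := by
  decide +kernel

theorem genB2 : ∃ S : Finset ((CoxeterMatrix.B 2)).Group, S.card = 1 ∧
    (∀ t ∈ S, ∃ (g : ((CoxeterMatrix.B 2)).Group) (i : Fin 2), t = g * ((CoxeterMatrix.B 2)).simple i * g⁻¹) ∧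
    Subgroup.closure (({((List.finRange 2).map ((CoxeterMatrix.B 2)).simple).prod} : Set ((CoxeterMatrix.B 2)).Group) ∪ ↑S) = ⊤ := by
  obtain ⟨e, he⟩ := CoxB2.exists_iso
  exact coxeter_gen (D := chevB2) Cfsg.Agent.Chevalley.Types.B2.certified e he CB2 ([0] : List (Fin 2)) (show (([0] : List (Fin 2)) : List _).Nodup by decide) blocksB2 genB2_ok.1 genB2_ok.2

/-- Words between the fundamental roots of one length. -/
def orbB2 (j : Fin 2) : List (Fin 2) :=
  ([[], []] : List (List (Fin 2))).getD j []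

theorem orbB2_ok : ∀ j : Fin 2,
    (WeylGroup.actT Cfsg.Agent.Chevalley.Data.B2.tab ((orbB2 j).map Fin.val) (Cfsg.Agent.Chevalley.Data.B2.tab.simple 0) = Cfsg.Agent.Chevalley.Data.B2.tab.simple j ∨
        WeylGroup.actT Cfsg.Agent.Chevalley.Data.B2.tab ((orbB2 j).map Fin.val) (Cfsg.Agent.Chevalley.Data.B2.tab.simple 0) = Cfsg.Agent.Chevalley.Data.B2.tab.neg (Cfsg.Agent.Chevalley.Data.B2.tab.simple j)) ∨
      (WeylGroup.actT Cfsg.Agent.Chevalley.Data.B2.tab ((orbB2 j).map Fin.val) (Cfsg.Agent.Chevalley.Data.B2.tab.simple 1) = Cfsg.Agent.Chevalley.Data.B2.tab.simple j ∨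
        WeylGroup.actT Cfsg.Agent.Chevalley.Data.B2.tab ((orbB2 j).map Fin.val) (Cfsg.Agent.Chevalley.Data.B2.tab.simple 1) = Cfsg.Agent.Chevalley.Data.B2.tab.neg (Cfsg.Agent.Chevalley.Data.B2.tab.simple j)) := by
  decide +kernel

theorem fixB2_ok : ∀ i < chevB2.rank, ∀ r < Cfsg.Agent.Chevalley.Data.B2.tab.n, Cfsg.Agent.Chevalley.Data.B2.tab.refl i r = Cfsg.Agent.Chevalley.Data.B2.tab.neg r →
    r = Cfsg.Agent.Chevalley.Data.B2.tab.simple i ∨ r = Cfsg.Agent.Chevalley.Data.B2.tab.neg (Cfsg.Agent.Chevalley.Data.B2.tab.simple i) := by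
  decide +kernel

theorem negB2_ok : (∀ j : Fin 2, WeylGroup.actT Cfsg.Agent.Chevalley.Data.B2.tab ((List.replicate 2 CB2).flatten.map Fin.val) (Cfsg.Agent.Chevalley.Data.B2.tab.simple j) =
      Cfsg.Agent.Chevalley.Data.B2.tab.neg (Cfsg.Agent.Chevalley.Data.B2.tab.simple j)) ∧
    ∀ i j : Fin 2, WeylGroup.actT Cfsg.Agent.Chevalley.Data.B2.tab ((List.replicate 2 CB2).flatten.map Fin.val) (Cfsg.Agent.Chevalley.Data.B2.tab.refl i (Cfsg.Agent.Chevalley.Data.B2.tab.simple j)) =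
      Cfsg.Agent.Chevalley.Data.B2.tab.refl i (WeylGroup.actT Cfsg.Agent.Chevalley.Data.B2.tab ((List.replicate 2 CB2).flatten.map Fin.val) (Cfsg.Agent.Chevalley.Data.B2.tab.simple j)) := by
  decide +kernel

theorem tripleB2_ok : (∀ i < chevB2.rank, chevB2.cartan i 7 = chevB2.cartan i 5 + chevB2.cartan i 6) ∧
    chevB2.cartan 0 7 ≠ 0 ∧
    wL chevB2 ([] : List ℕ) (chevB2.simple 0) = 5 ∧ wL chevB2 ([1] : List ℕ) (chevB2.simple 0) = 6 ∧
    wL chevB2 ([0] : List ℕ) (chevB2.simple 1) = 7 := by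
  decide +kernel

theorem centerB2 : Nat.card (Subgroup.center ((CoxeterMatrix.B 2)).Group) = 2 ∧
    Subgroup.center ((CoxeterMatrix.B 2)).Group ≤ Subgroup.zpowers ((List.finRange 2).map ((CoxeterMatrix.B 2)).simple).prod := by
  obtain ⟨e, he⟩ := CoxB2.exists_iso
  obtain ⟨hadd, hne, wa, wb, wk⟩ := tripleB2_ok
  refine coxeter_center (D := chevB2) Cfsg.Agent.Chevalley.Types.B2.certified e he CB2 (center_of_cases Cfsg.Agent.Chevalley.Types.B2.certified CB2 2 negB2_ok.1 negB2_ok.2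
    (by decide) fun L hL => central_cases Cfsg.Agent.Chevalley.Types.B2.certified hL fixB2_ok (0 : Fin 2) (1 : Fin 2) orbB2 orbB2_ok ?_)
  have hs : ∀ i < chevB2.rank, chevB2.simple i < chevB2.nroots := fun i hi => Cert.Certified.simple_lt Cfsg.Agent.Chevalley.Types.B2.certified hi
  have ka := central_sign Cfsg.Agent.Chevalley.Types.B2.certified hL ([] : List (Fin 2)) (hs 0 (by decide)) (r := 5) (Or.inl wa) (by decide +kernel)
  have kb := central_sign Cfsg.Agent.Chevalley.Types.B2.certified hL ([1] : List (Fin 2)) (hs 0 (by decide)) (r := 6) (Or.inl wb) (by decide +kernel)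
  have kk := central_sign Cfsg.Agent.Chevalley.Types.B2.certified hL ([0] : List (Fin 2)) (hs 1 (by decide)) (r := 7) (Or.inl wk) (by decide +kernel)
  exact ⟨fun h1 h2 => mixed_false Cfsg.Agent.Chevalley.Types.B2.certified (valid Cfsg.Agent.Chevalley.Types.B2.certified L) (a := 5) (b := 6) (k := 7) (by decide +kernel)
      (by decide +kernel) (by decide +kernel) (i₀ := 0) (by decide) hadd hne
      (Or.inr ⟨ka.1 h1, kb.1 h1, kk.2 h2⟩),
    fun h1 h2 => mixed_false Cfsg.Agent.Chevalley.Types.B2.certified (valid Cfsg.Agent.Chevalley.Types.B2.certified L) (a := 5) (b := 6) (k := 7) (by decide +kernel)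
      (by decide +kernel) (by decide +kernel) (i₀ := 0) (by decide) hadd hne
      (Or.inl ⟨ka.2 h1, kb.2 h1, kk.1 h2⟩)⟩

/-! ### G2 -/

/-- All fundamental reflections in order. -/
abbrev CG2 : List (Fin 2) := List.finRange 2

/-- The words for the fundamental reflections. -/
def blocksG2 (j : Fin 2) : List (List (Fin 2)) :=
  ([[[0]],
    [[0], CG2]] : List (List (List (Fin 2)))).getD j []

theorem genG2_ok : (∀ j : Fin 2, ∀ b ∈ blocksG2 j, b = CG2 ∨ b = CG2.reverse ∨ ∃ t ∈ ([0] : List (Fin 2)), b = [t]) ∧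
    ∀ j k : Fin 2, WeylGroup.actT Cfsg.Agent.Chevalley.Data.G2.tab ((blocksG2 j).flatten.map Fin.val) (Cfsg.Agent.Chevalley.Data.G2.tab.simple k) = Cfsg.Agent.Chevalley.Data.G2.tab.refl j (Cfsg.Agent.Chevalley.Data.G2.tab.simple k) := by
  decide +kernel

theorem genG2 : ∃ S : Finset (CoxeterMatrix.G₂).Group, S.card = 1 ∧
    (∀ t ∈ S, ∃ (g : (CoxeterMatrix.G₂).Group) (i : Fin 2), t = g * (CoxeterMatrix.G₂).simple i * g⁻¹) ∧
    Subgroup.closure (({((List.finRange 2).map (CoxeterMatrix.G₂).simple).prod} : Set (CoxeterMatrix.G₂).Group) ∪ ↑S) = ⊤ := by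
  obtain ⟨e, he⟩ := CoxG2.exists_iso
  exact coxeter_gen (D := chevG2) Cfsg.Agent.Chevalley.Types.G2.certified e he CG2 ([0] : List (Fin 2)) (show (([0] : List (Fin 2)) : List _).Nodup by decide) blocksG2 genG2_ok.1 genG2_ok.2

/-- Words between the fundamental roots of one length. -/
def orbG2 (j : Fin 2) : List (Fin 2) :=
  ([[], []] : List (List (Fin 2))).getD j []

theorem orbG2_ok : ∀ j : Fin 2,
    (WeylGroup.actT Cfsg.Agent.Chevalley.Data.G2.tab ((orbG2 j).map Fin.val) (Cfsg.Agent.Chevalley.Data.G2.tab.simple 0) = Cfsg.Agent.Chevalley.Data.G2.tab.simple j ∨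
        WeylGroup.actT Cfsg.Agent.Chevalley.Data.G2.tab ((orbG2 j).map Fin.val) (Cfsg.Agent.Chevalley.Data.G2.tab.simple 0) = Cfsg.Agent.Chevalley.Data.G2.tab.neg (Cfsg.Agent.Chevalley.Data.G2.tab.simple j)) ∨
      (WeylGroup.actT Cfsg.Agent.Chevalley.Data.G2.tab ((orbG2 j).map Fin.val) (Cfsg.Agent.Chevalley.Data.G2.tab.simple 1) = Cfsg.Agent.Chevalley.Data.G2.tab.simple j ∨
        WeylGroup.actT Cfsg.Agent.Chevalley.Data.G2.tab ((orbG2 j).map Fin.val) (Cfsg.Agent.Chevalley.Data.G2.tab.simple 1) = Cfsg.Agent.Chevalley.Data.G2.tab.neg (Cfsg.Agent.Chevalley.Data.G2.tab.simple j)) := by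
  decide +kernel

theorem fixG2_ok : ∀ i < chevG2.rank, ∀ r < Cfsg.Agent.Chevalley.Data.G2.tab.n, Cfsg.Agent.Chevalley.Data.G2.tab.refl i r = Cfsg.Agent.Chevalley.Data.G2.tab.neg r →
    r = Cfsg.Agent.Chevalley.Data.G2.tab.simple i ∨ r = Cfsg.Agent.Chevalley.Data.G2.tab.neg (Cfsg.Agent.Chevalley.Data.G2.tab.simple i) := by
  decide +kernel

theorem negG2_ok : (∀ j : Fin 2, WeylGroup.actT Cfsg.Agent.Chevalley.Data.G2.tab ((List.replicate 3 CG2).flatten.map Fin.val) (Cfsg.Agent.Chevalley.Data.G2.tab.simple j) =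
      Cfsg.Agent.Chevalley.Data.G2.tab.neg (Cfsg.Agent.Chevalley.Data.G2.tab.simple j)) ∧
    ∀ i j : Fin 2, WeylGroup.actT Cfsg.Agent.Chevalley.Data.G2.tab ((List.replicate 3 CG2).flatten.map Fin.val) (Cfsg.Agent.Chevalley.Data.G2.tab.refl i (Cfsg.Agent.Chevalley.Data.G2.tab.simple j)) =
      Cfsg.Agent.Chevalley.Data.G2.tab.refl i (WeylGroup.actT Cfsg.Agent.Chevalley.Data.G2.tab ((List.replicate 3 CG2).flatten.map Fin.val) (Cfsg.Agent.Chevalley.Data.G2.tab.simple j)) := by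
  decide +kernel

theorem tripleG2_ok : (∀ i < chevG2.rank, chevG2.cartan i 6 = chevG2.cartan i 4 + chevG2.cartan i 8) ∧
    chevG2.cartan 0 6 ≠ 0 ∧
    wL chevG2 ([0] : List ℕ) (chevG2.simple 0) = 4 ∧ wL chevG2 ([1] : List ℕ) (chevG2.simple 0) = 8 ∧
    wL chevG2 ([] : List ℕ) (chevG2.simple 1) = 6 := by
  decide +kernel

theorem centerG2 : Nat.card (Subgroup.center (CoxeterMatrix.G₂).Group) = 2 ∧
    Subgroup.center (CoxeterMatrix.G₂).Group ≤ Subgroup.zpowers ((List.finRange 2).map (CoxeterMatrix.G₂).simple).prod := by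
  obtain ⟨e, he⟩ := CoxG2.exists_iso
  obtain ⟨hadd, hne, wa, wb, wk⟩ := tripleG2_ok
  refine coxeter_center (D := chevG2) Cfsg.Agent.Chevalley.Types.G2.certified e he CG2 (center_of_cases Cfsg.Agent.Chevalley.Types.G2.certified CG2 3 negG2_ok.1 negG2_ok.2
    (by decide) fun L hL => central_cases Cfsg.Agent.Chevalley.Types.G2.certified hL fixG2_ok (0 : Fin 2) (1 : Fin 2) orbG2 orbG2_ok ?_)
  have hs : ∀ i < chevG2.rank, chevG2.simple i < chevG2.nroots := fun i hi => Cert.Certified.simple_lt Cfsg.Agent.Chevalley.Types.G2.certified hi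
  have ka := central_sign Cfsg.Agent.Chevalley.Types.G2.certified hL ([0] : List (Fin 2)) (hs 0 (by decide)) (r := 4) (Or.inl wa) (by decide +kernel)
  have kb := central_sign Cfsg.Agent.Chevalley.Types.G2.certified hL ([1] : List (Fin 2)) (hs 0 (by decide)) (r := 8) (Or.inl wb) (by decide +kernel)
  have kk := central_sign Cfsg.Agent.Chevalley.Types.G2.certified hL ([] : List (Fin 2)) (hs 1 (by decide)) (r := 6) (Or.inl wk) (by decide +kernel)
  exact ⟨fun h1 h2 => mixed_false Cfsg.Agent.Chevalley.Types.G2.certified (valid Cfsg.Agent.Chevalley.Types.G2.certified L) (a := 4) (b := 8) (k := 6) (by decide +kernel)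
      (by decide +kernel) (by decide +kernel) (i₀ := 0) (by decide) hadd hne
      (Or.inr ⟨ka.1 h1, kb.1 h1, kk.2 h2⟩),
    fun h1 h2 => mixed_false Cfsg.Agent.Chevalley.Types.G2.certified (valid Cfsg.Agent.Chevalley.Types.G2.certified L) (a := 4) (b := 8) (k := 6) (by decide +kernel)
      (by decide +kernel) (by decide +kernel) (i₀ := 0) (by decide) hadd hne
      (Or.inl ⟨ka.2 h1, kb.2 h1, kk.1 h2⟩)⟩

/-! ### D4 -/

/-- All fundamental reflections in order. -/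
abbrev CD4 : List (Fin 4) := List.finRange 4

/-- The words for the fundamental reflections. -/
def blocksD4 (j : Fin 4) : List (List (Fin 4)) :=
  ([[[0]],
    [CD4, [0], CD4.reverse],
    [[2]],
    [CD4, [2], CD4, [0], CD4.reverse, [2], CD4.reverse]] : List (List (List (Fin 4)))).getD j []

theorem genD4_ok : (∀ j : Fin 4, ∀ b ∈ blocksD4 j, b = CD4 ∨ b = CD4.reverse ∨ ∃ t ∈ ([0,2] : List (Fin 4)), b = [t]) ∧
    ∀ j k : Fin 4, WeylGroup.actT Cfsg.Agent.Chevalley.Data.D4.tab ((blocksD4 j).flatten.map Fin.val) (Cfsg.Agent.Chevalley.Data.D4.tab.simple k) = Cfsg.Agent.Chevalley.Data.D4.tab.refl j (Cfsg.Agent.Chevalley.Data.D4.tab.simple k) := by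
  decide +kernel

theorem genD4 : ∃ S : Finset (Cfsg.Lie.coxeterD4).Group, S.card = 2 ∧
    (∀ t ∈ S, ∃ (g : (Cfsg.Lie.coxeterD4).Group) (i : Fin 4), t = g * (Cfsg.Lie.coxeterD4).simple i * g⁻¹) ∧
    Subgroup.closure (({((List.finRange 4).map (Cfsg.Lie.coxeterD4).simple).prod} : Set (Cfsg.Lie.coxeterD4).Group) ∪ ↑S) = ⊤ := by
  obtain ⟨e, he⟩ := CoxD4.exists_iso
  exact coxeter_gen (D := chevD4) Cfsg.Agent.Chevalley.Types.D4.certified e he CD4 ([0,2] : List (Fin 4)) (show (([0,2] : List (Fin 4)) : List _).Nodup by decide) blocksD4 genD4_ok.1 genD4_ok.2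

/-- Words between the fundamental roots of one length. -/
def orbD4 (j : Fin 4) : List (Fin 4) :=
  ([[], [0,1], [1,2,0,1], [1,3,0,1]] : List (List (Fin 4))).getD j []

theorem orbD4_ok : ∀ j : Fin 4,
    (WeylGroup.actT Cfsg.Agent.Chevalley.Data.D4.tab ((orbD4 j).map Fin.val) (Cfsg.Agent.Chevalley.Data.D4.tab.simple 0) = Cfsg.Agent.Chevalley.Data.D4.tab.simple j ∨
        WeylGroup.actT Cfsg.Agent.Chevalley.Data.D4.tab ((orbD4 j).map Fin.val) (Cfsg.Agent.Chevalley.Data.D4.tab.simple 0) = Cfsg.Agent.Chevalley.Data.D4.tab.neg (Cfsg.Agent.Chevalley.Data.D4.tab.simple j)) ∨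
      (WeylGroup.actT Cfsg.Agent.Chevalley.Data.D4.tab ((orbD4 j).map Fin.val) (Cfsg.Agent.Chevalley.Data.D4.tab.simple 0) = Cfsg.Agent.Chevalley.Data.D4.tab.simple j ∨
        WeylGroup.actT Cfsg.Agent.Chevalley.Data.D4.tab ((orbD4 j).map Fin.val) (Cfsg.Agent.Chevalley.Data.D4.tab.simple 0) = Cfsg.Agent.Chevalley.Data.D4.tab.neg (Cfsg.Agent.Chevalley.Data.D4.tab.simple j)) := by
  decide +kernel

theorem fixD4_ok : ∀ i < chevD4.rank, ∀ r < Cfsg.Agent.Chevalley.Data.D4.tab.n, Cfsg.Agent.Chevalley.Data.D4.tab.refl i r = Cfsg.Agent.Chevalley.Data.D4.tab.neg r →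
    r = Cfsg.Agent.Chevalley.Data.D4.tab.simple i ∨ r = Cfsg.Agent.Chevalley.Data.D4.tab.neg (Cfsg.Agent.Chevalley.Data.D4.tab.simple i) := by
  decide +kernel

theorem negD4_ok : (∀ j : Fin 4, WeylGroup.actT Cfsg.Agent.Chevalley.Data.D4.tab ((List.replicate 3 CD4).flatten.map Fin.val) (Cfsg.Agent.Chevalley.Data.D4.tab.simple j) =
      Cfsg.Agent.Chevalley.Data.D4.tab.neg (Cfsg.Agent.Chevalley.Data.D4.tab.simple j)) ∧
    ∀ i j : Fin 4, WeylGroup.actT Cfsg.Agent.Chevalley.Data.D4.tab ((List.replicate 3 CD4).flatten.map Fin.val) (Cfsg.Agent.Chevalley.Data.D4.tab.refl i (Cfsg.Agent.Chevalley.Data.D4.tab.simple j)) =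
      Cfsg.Agent.Chevalley.Data.D4.tab.refl i (WeylGroup.actT Cfsg.Agent.Chevalley.Data.D4.tab ((List.replicate 3 CD4).flatten.map Fin.val) (Cfsg.Agent.Chevalley.Data.D4.tab.simple j)) := by
  decide +kernel

theorem centerD4 : Nat.card (Subgroup.center (Cfsg.Lie.coxeterD4).Group) = 2 ∧
    Subgroup.center (Cfsg.Lie.coxeterD4).Group ≤ Subgroup.zpowers ((List.finRange 4).map (Cfsg.Lie.coxeterD4).simple).prod := by
  obtain ⟨e, he⟩ := CoxD4.exists_iso
  refine coxeter_center (D := chevD4) Cfsg.Agent.Chevalley.Types.D4.certified e he CD4 (center_of_cases Cfsg.Agent.Chevalley.Types.D4.certified CD4 3 negD4_ok.1 negD4_ok.2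
    (by decide) fun L hL => central_cases Cfsg.Agent.Chevalley.Types.D4.certified hL fixD4_ok (0 : Fin 4) (0 : Fin 4) orbD4 orbD4_ok
      ⟨fun h1 h2 => ?_, fun h1 h2 => ?_⟩)
  all_goals
    rw [h1] at h2
    first
      | exact Cert.Certified.neg_ne Cfsg.Agent.Chevalley.Types.D4.certified (Cert.Certified.simple_lt Cfsg.Agent.Chevalley.Types.D4.certified (i := 0) (by decide)) h2.symm
      | exact Cert.Certified.neg_ne Cfsg.Agent.Chevalley.Types.D4.certified (Cert.Certified.simple_lt Cfsg.Agent.Chevalley.Types.D4.certified (i := 0) (by decide)) h2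

/-! ### F4 -/

/-- All fundamental reflections in order. -/
abbrev CF4 : List (Fin 4) := List.finRange 4

/-- The words for the fundamental reflections. -/
def blocksF4 (j : Fin 4) : List (List (Fin 4)) :=
  ([[[0]],
    [CF4, [0], CF4.reverse],
    [[2]],
    [CF4, [2], CF4.reverse]] : List (List (List (Fin 4)))).getD j []

theorem genF4_ok : (∀ j : Fin 4, ∀ b ∈ blocksF4 j, b = CF4 ∨ b = CF4.reverse ∨ ∃ t ∈ ([0,2] : List (Fin 4)), b = [t]) ∧
    ∀ j k : Fin 4, WeylGroup.actT Cfsg.Agent.Chevalley.Data.F4.tab ((blocksF4 j).flatten.map Fin.val) (Cfsg.Agent.Chevalley.Data.F4.tab.simple k) = Cfsg.Agent.Chevalley.Data.F4.tab.refl j (Cfsg.Agent.Chevalley.Data.F4.tab.simple k) := by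
  decide +kernel

theorem genF4 : ∃ S : Finset (CoxeterMatrix.F₄).Group, S.card = 2 ∧
    (∀ t ∈ S, ∃ (g : (CoxeterMatrix.F₄).Group) (i : Fin 4), t = g * (CoxeterMatrix.F₄).simple i * g⁻¹) ∧
    Subgroup.closure (({((List.finRange 4).map (CoxeterMatrix.F₄).simple).prod} : Set (CoxeterMatrix.F₄).Group) ∪ ↑S) = ⊤ := by
  obtain ⟨e, he⟩ := CoxF4.exists_iso
  exact coxeter_gen (D := chevF4) Cfsg.Agent.Chevalley.Types.F4.certified e he CF4 ([0,2] : List (Fin 4)) (show (([0,2] : List (Fin 4)) : List _).Nodup by decide) blocksF4 genF4_ok.1 genF4_ok.2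

/-- Words between the fundamental roots of one length. -/
def orbF4 (j : Fin 4) : List (Fin 4) :=
  ([[], [0,1], [], [2,3]] : List (List (Fin 4))).getD j []

theorem orbF4_ok : ∀ j : Fin 4,
    (WeylGroup.actT Cfsg.Agent.Chevalley.Data.F4.tab ((orbF4 j).map Fin.val) (Cfsg.Agent.Chevalley.Data.F4.tab.simple 0) = Cfsg.Agent.Chevalley.Data.F4.tab.simple j ∨
        WeylGroup.actT Cfsg.Agent.Chevalley.Data.F4.tab ((orbF4 j).map Fin.val) (Cfsg.Agent.Chevalley.Data.F4.tab.simple 0) = Cfsg.Agent.Chevalley.Data.F4.tab.neg (Cfsg.Agent.Chevalley.Data.F4.tab.simple j)) ∨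
      (WeylGroup.actT Cfsg.Agent.Chevalley.Data.F4.tab ((orbF4 j).map Fin.val) (Cfsg.Agent.Chevalley.Data.F4.tab.simple 2) = Cfsg.Agent.Chevalley.Data.F4.tab.simple j ∨
        WeylGroup.actT Cfsg.Agent.Chevalley.Data.F4.tab ((orbF4 j).map Fin.val) (Cfsg.Agent.Chevalley.Data.F4.tab.simple 2) = Cfsg.Agent.Chevalley.Data.F4.tab.neg (Cfsg.Agent.Chevalley.Data.F4.tab.simple j)) := by
  decide +kernel

theorem fixF4_ok : ∀ i < chevF4.rank, ∀ r < Cfsg.Agent.Chevalley.Data.F4.tab.n, Cfsg.Agent.Chevalley.Data.F4.tab.refl i r = Cfsg.Agent.Chevalley.Data.F4.tab.neg r →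
    r = Cfsg.Agent.Chevalley.Data.F4.tab.simple i ∨ r = Cfsg.Agent.Chevalley.Data.F4.tab.neg (Cfsg.Agent.Chevalley.Data.F4.tab.simple i) := by
  decide +kernel

theorem negF4_ok : (∀ j : Fin 4, WeylGroup.actT Cfsg.Agent.Chevalley.Data.F4.tab ((List.replicate 6 CF4).flatten.map Fin.val) (Cfsg.Agent.Chevalley.Data.F4.tab.simple j) =
      Cfsg.Agent.Chevalley.Data.F4.tab.neg (Cfsg.Agent.Chevalley.Data.F4.tab.simple j)) ∧
    ∀ i j : Fin 4, WeylGroup.actT Cfsg.Agent.Chevalley.Data.F4.tab ((List.replicate 6 CF4).flatten.map Fin.val) (Cfsg.Agent.Chevalley.Data.F4.tab.refl i (Cfsg.Agent.Chevalley.Data.F4.tab.simple j)) =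
      Cfsg.Agent.Chevalley.Data.F4.tab.refl i (WeylGroup.actT Cfsg.Agent.Chevalley.Data.F4.tab ((List.replicate 6 CF4).flatten.map Fin.val) (Cfsg.Agent.Chevalley.Data.F4.tab.simple j)) := by
  decide +kernel

theorem tripleF4_ok : (∀ i < chevF4.rank, chevF4.cartan i 25 = chevF4.cartan i 13 + chevF4.cartan i 35) ∧
    chevF4.cartan 1 25 ≠ 0 ∧
    wL chevF4 ([1,0] : List ℕ) (chevF4.simple 0) = 13 ∧ wL chevF4 ([2,1] : List ℕ) (chevF4.simple 0) = 35 ∧
    wL chevF4 ([] : List ℕ) (chevF4.simple 2) = 25 := by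
  decide +kernel

theorem centerF4 : Nat.card (Subgroup.center (CoxeterMatrix.F₄).Group) = 2 ∧
    Subgroup.center (CoxeterMatrix.F₄).Group ≤ Subgroup.zpowers ((List.finRange 4).map (CoxeterMatrix.F₄).simple).prod := by
  obtain ⟨e, he⟩ := CoxF4.exists_iso
  obtain ⟨hadd, hne, wa, wb, wk⟩ := tripleF4_ok
  refine coxeter_center (D := chevF4) Cfsg.Agent.Chevalley.Types.F4.certified e he CF4 (center_of_cases Cfsg.Agent.Chevalley.Types.F4.certified CF4 6 negF4_ok.1 negF4_ok.2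
    (by decide) fun L hL => central_cases Cfsg.Agent.Chevalley.Types.F4.certified hL fixF4_ok (0 : Fin 4) (2 : Fin 4) orbF4 orbF4_ok ?_)
  have hs : ∀ i < chevF4.rank, chevF4.simple i < chevF4.nroots := fun i hi => Cert.Certified.simple_lt Cfsg.Agent.Chevalley.Types.F4.certified hi
  have ka := central_sign Cfsg.Agent.Chevalley.Types.F4.certified hL ([1,0] : List (Fin 4)) (hs 0 (by decide)) (r := 13) (Or.inl wa) (by decide +kernel)
  have kb := central_sign Cfsg.Agent.Chevalley.Types.F4.certified hL ([2,1] : List (Fin 4)) (hs 0 (by decide)) (r := 35) (Or.inl wb) (by decide +kernel)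
  have kk := central_sign Cfsg.Agent.Chevalley.Types.F4.certified hL ([] : List (Fin 4)) (hs 2 (by decide)) (r := 25) (Or.inl wk) (by decide +kernel)
  exact ⟨fun h1 h2 => mixed_false Cfsg.Agent.Chevalley.Types.F4.certified (valid Cfsg.Agent.Chevalley.Types.F4.certified L) (a := 13) (b := 35) (k := 25) (by decide +kernel)
      (by decide +kernel) (by decide +kernel) (i₀ := 1) (by decide) hadd hne
      (Or.inr ⟨ka.1 h1, kb.1 h1, kk.2 h2⟩),
    fun h1 h2 => mixed_false Cfsg.Agent.Chevalley.Types.F4.certified (valid Cfsg.Agent.Chevalley.Types.F4.certified L) (a := 13) (b := 35) (k := 25) (by decide +kernel)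
      (by decide +kernel) (by decide +kernel) (i₀ := 1) (by decide) hadd hne
      (Or.inl ⟨ka.2 h1, kb.2 h1, kk.1 h2⟩)⟩

/-! ### E6 -/

/-- All fundamental reflections in order. -/
abbrev CE6 : List (Fin 6) := List.finRange 6

/-- The words for the fundamental reflections. -/
def blocksE6 (j : Fin 6) : List (List (Fin 6)) :=
  ([[[0]],
    [CE6, CE6, [0], CE6, CE6, CE6, [0], CE6.reverse, CE6.reverse, CE6.reverse, [0], CE6.reverse, CE6.reverse],
    [CE6, [0], CE6.reverse],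
    [CE6, CE6, CE6, CE6, CE6, [0], CE6.reverse, CE6.reverse, CE6.reverse, CE6.reverse, CE6.reverse],
    [CE6, CE6, CE6, CE6, CE6, CE6, [0], CE6.reverse, CE6.reverse, CE6.reverse, CE6.reverse, CE6.reverse, CE6.reverse],
    [CE6, CE6, CE6, CE6, CE6, CE6, CE6, [0], CE6.reverse, CE6.reverse, CE6.reverse, CE6.reverse, CE6.reverse, CE6.reverse, CE6.reverse]] : List (List (List (Fin 6)))).getD j []

theorem genE6_ok : (∀ j : Fin 6, ∀ b ∈ blocksE6 j, b = CE6 ∨ b = CE6.reverse ∨ ∃ t ∈ ([0] : List (Fin 6)), b = [t]) ∧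
    ∀ j k : Fin 6, WeylGroup.actT Cfsg.Agent.Chevalley.Data.E6.tab ((blocksE6 j).flatten.map Fin.val) (Cfsg.Agent.Chevalley.Data.E6.tab.simple k) = Cfsg.Agent.Chevalley.Data.E6.tab.refl j (Cfsg.Agent.Chevalley.Data.E6.tab.simple k) := by
  decide +kernel

theorem genE6 : ∃ S : Finset (CoxeterMatrix.E₆).Group, S.card = 1 ∧
    (∀ t ∈ S, ∃ (g : (CoxeterMatrix.E₆).Group) (i : Fin 6), t = g * (CoxeterMatrix.E₆).simple i * g⁻¹) ∧
    Subgroup.closure (({((List.finRange 6).map (CoxeterMatrix.E₆).simple).prod} : Set (CoxeterMatrix.E₆).Group) ∪ ↑S) = ⊤ := by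
  obtain ⟨e, he⟩ := CoxE6.exists_iso
  exact coxeter_gen (D := chevE6) Cfsg.Agent.Chevalley.Types.E6.certified e he CE6 ([0] : List (Fin 6)) (show (([0] : List (Fin 6)) : List _).Nodup by decide) blocksE6 genE6_ok.1 genE6_ok.2

/-- Words between the fundamental roots of one length. -/
def orbE6 (j : Fin 6) : List (Fin 6) :=
  ([[], [3,2,1,3,0,2], [0,2], [2,3,0,2], [3,4,2,3,0,2], [4,5,3,4,2,3,0,2]] : List (List (Fin 6))).getD j []

theorem orbE6_ok : ∀ j : Fin 6,
    (WeylGroup.actT Cfsg.Agent.Chevalley.Data.E6.tab ((orbE6 j).map Fin.val) (Cfsg.Agent.Chevalley.Data.E6.tab.simple 0) = Cfsg.Agent.Chevalley.Data.E6.tab.simple j ∨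
        WeylGroup.actT Cfsg.Agent.Chevalley.Data.E6.tab ((orbE6 j).map Fin.val) (Cfsg.Agent.Chevalley.Data.E6.tab.simple 0) = Cfsg.Agent.Chevalley.Data.E6.tab.neg (Cfsg.Agent.Chevalley.Data.E6.tab.simple j)) ∨
      (WeylGroup.actT Cfsg.Agent.Chevalley.Data.E6.tab ((orbE6 j).map Fin.val) (Cfsg.Agent.Chevalley.Data.E6.tab.simple 0) = Cfsg.Agent.Chevalley.Data.E6.tab.simple j ∨
        WeylGroup.actT Cfsg.Agent.Chevalley.Data.E6.tab ((orbE6 j).map Fin.val) (Cfsg.Agent.Chevalley.Data.E6.tab.simple 0) = Cfsg.Agent.Chevalley.Data.E6.tab.neg (Cfsg.Agent.Chevalley.Data.E6.tab.simple j)) := by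
  decide +kernel

theorem fixE6_ok : ∀ i < chevE6.rank, ∀ r < Cfsg.Agent.Chevalley.Data.E6.tab.n, Cfsg.Agent.Chevalley.Data.E6.tab.refl i r = Cfsg.Agent.Chevalley.Data.E6.tab.neg r →
    r = Cfsg.Agent.Chevalley.Data.E6.tab.simple i ∨ r = Cfsg.Agent.Chevalley.Data.E6.tab.neg (Cfsg.Agent.Chevalley.Data.E6.tab.simple i) := by
  decide +kernel

theorem longE6_ok : (∀ i ∈ (List.replicate 6 [1,3,4,2,5,0]).flatten, i < chevE6.rank) ∧
    ∀ j < 6, wL chevE6 (List.replicate 6 [1,3,4,2,5,0]).flatten (chevE6.simple j) = chevE6.neg (chevE6.simple ([5, 1, 4, 3, 2, 0].getD j 0)) := by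
  decide +kernel

theorem centerE6 : Nat.card (Subgroup.center (CoxeterMatrix.E₆).Group) = 1 ∧
    Subgroup.center (CoxeterMatrix.E₆).Group ≤ Subgroup.zpowers ((List.finRange 6).map (CoxeterMatrix.E₆).simple).prod := by
  obtain ⟨e, he⟩ := CoxE6.exists_iso
  have hC := Cfsg.Agent.Chevalley.Types.E6.certified
  have hbot : Subgroup.center (WG Cfsg.Agent.Chevalley.Types.E6.certified) = ⊥ := by
    rw [eq_bot_iff]
    intro z hz
    obtain ⟨L, rfl⟩ := gW_gen hC z
    rw [Subgroup.mem_bot]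
    refine (central_cases Cfsg.Agent.Chevalley.Types.E6.certified hz fixE6_ok (0 : Fin 6) (0 : Fin 6) orbE6 orbE6_ok ⟨fun h1 h2 => ?_, fun h1 h2 => ?_⟩).resolve_right fun hall => ?_
    · rw [h1] at h2; exact hC.neg_ne (hC.simple_lt (i := 0) (by decide)) h2.symm
    · rw [h1] at h2; exact hC.neg_ne (hC.simple_lt (i := 0) (by decide)) h2
    obtain ⟨hW, hWs⟩ := longE6_ok
    obtain ⟨W, hWdef⟩ : ∃ W : List ℕ, W = (List.replicate 6 [1,3,4,2,5,0]).flatten := ⟨_, rfl⟩
    rw [← hWdef] at hW hWs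
    have hLW : ∀ j < 6, wL chevE6 (L.map Fin.val ++ W) (chevE6.simple j) =
        chevE6.simple ([5, 1, 4, 3, 2, 0].getD j 0) := by
      intro j hj
      have hp : [5, 1, 4, 3, 2, 0].getD j 0 < 6 := by revert j; decide
      rw [wL_append, hWs j hj, wL_neg hC (valid hC L) (hC.simple_lt hp)]
      rw [show wL chevE6 (L.map Fin.val) (chevE6.simple ([5, 1, 4, 3, 2, 0].getD j 0)) = _ from
        hall ⟨_, hp⟩, hC.neg_neg (hC.simple_lt hp)]
    have hall' : ∀ i ∈ L.map Fin.val ++ W, i < chevE6.rank := fun i hi =>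
      (List.mem_append.1 hi).elim (valid hC L i) (hW i)
    have h := Weyl.wL_eq_self_of_pos hC hall' (fun i hi => by
      rw [hLW i hi]
      exact hC.phi_simple (by revert i; decide)) (r := chevE6.simple 0) (hC.simple_lt (by decide))
    rw [hLW 0 (by decide)] at h
    exact absurd (hC.simple_inj (by decide) (by decide) h) (by decide)
  refine coxeter_center (D := chevE6) Cfsg.Agent.Chevalley.Types.E6.certified e he CE6 ⟨?_, ?_⟩
  · rw [hbot]; exact Subgroup.card_bot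
  · rw [hbot]; exact bot_le

/-! ### E7 -/

/-- All fundamental reflections in order. -/
abbrev CE7 : List (Fin 7) := List.finRange 7

/-- The words for the fundamental reflections. -/
def blocksE7 (j : Fin 7) : List (List (Fin 7)) :=
  ([[CE7, CE7, CE7, [1], CE7, CE7, [1], CE7.reverse, CE7.reverse, [1], CE7.reverse, CE7.reverse, CE7.reverse],
    [[1]],
    [CE7, CE7, CE7, CE7, [1], CE7, CE7, [1], CE7.reverse, CE7.reverse, [1], CE7.reverse, CE7.reverse, CE7.reverse, CE7.reverse],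
    [[1], CE7, CE7, CE7, CE7, CE7, [1], CE7, CE7, [1], CE7.reverse, CE7.reverse, [1], CE7.reverse, CE7.reverse, CE7.reverse, CE7.reverse, CE7.reverse, [1]],
    [CE7, [1], CE7, CE7, CE7, CE7, CE7, [1], CE7, CE7, [1], CE7.reverse, CE7.reverse, [1], CE7.reverse, CE7.reverse, CE7.reverse, CE7.reverse, CE7.reverse, [1], CE7.reverse],
    [CE7, CE7, [1], CE7, CE7, CE7, CE7, CE7, [1], CE7, CE7, [1], CE7.reverse, CE7.reverse, [1], CE7.reverse, CE7.reverse, CE7.reverse, CE7.reverse, CE7.reverse, [1], CE7.reverse, CE7.reverse],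
    [CE7, CE7, CE7, [1], CE7, CE7, CE7, CE7, CE7, [1], CE7, CE7, [1], CE7.reverse, CE7.reverse, [1], CE7.reverse, CE7.reverse, CE7.reverse, CE7.reverse, CE7.reverse, [1], CE7.reverse, CE7.reverse, CE7.reverse]] : List (List (List (Fin 7)))).getD j []

theorem genE7_ok : (∀ j : Fin 7, ∀ b ∈ blocksE7 j, b = CE7 ∨ b = CE7.reverse ∨ ∃ t ∈ ([1] : List (Fin 7)), b = [t]) ∧
    ∀ j k : Fin 7, WeylGroup.actT Cfsg.Agent.Chevalley.Data.E7.tab ((blocksE7 j).flatten.map Fin.val) (Cfsg.Agent.Chevalley.Data.E7.tab.simple k) = Cfsg.Agent.Chevalley.Data.E7.tab.refl j (Cfsg.Agent.Chevalley.Data.E7.tab.simple k) := by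
  decide +kernel

theorem genE7 : ∃ S : Finset (CoxeterMatrix.E₇).Group, S.card = 1 ∧
    (∀ t ∈ S, ∃ (g : (CoxeterMatrix.E₇).Group) (i : Fin 7), t = g * (CoxeterMatrix.E₇).simple i * g⁻¹) ∧
    Subgroup.closure (({((List.finRange 7).map (CoxeterMatrix.E₇).simple).prod} : Set (CoxeterMatrix.E₇).Group) ∪ ↑S) = ⊤ := by
  obtain ⟨e, he⟩ := CoxE7.exists_iso
  exact coxeter_gen (D := chevE7) Cfsg.Agent.Chevalley.Types.E7.certified e he CE7 ([1] : List (Fin 7)) (show (([1] : List (Fin 7)) : List _).Nodup by decide) blocksE7 genE7_ok.1 genE7_ok.2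

/-- Words between the fundamental roots of one length. -/
def orbE7 (j : Fin 7) : List (Fin 7) :=
  ([[], [3,2,1,3,0,2], [0,2], [2,3,0,2], [3,4,2,3,0,2], [4,5,3,4,2,3,0,2], [5,6,4,5,3,4,2,3,0,2]] : List (List (Fin 7))).getD j []

theorem orbE7_ok : ∀ j : Fin 7,
    (WeylGroup.actT Cfsg.Agent.Chevalley.Data.E7.tab ((orbE7 j).map Fin.val) (Cfsg.Agent.Chevalley.Data.E7.tab.simple 0) = Cfsg.Agent.Chevalley.Data.E7.tab.simple j ∨
        WeylGroup.actT Cfsg.Agent.Chevalley.Data.E7.tab ((orbE7 j).map Fin.val) (Cfsg.Agent.Chevalley.Data.E7.tab.simple 0) = Cfsg.Agent.Chevalley.Data.E7.tab.neg (Cfsg.Agent.Chevalley.Data.E7.tab.simple j)) ∨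
      (WeylGroup.actT Cfsg.Agent.Chevalley.Data.E7.tab ((orbE7 j).map Fin.val) (Cfsg.Agent.Chevalley.Data.E7.tab.simple 0) = Cfsg.Agent.Chevalley.Data.E7.tab.simple j ∨
        WeylGroup.actT Cfsg.Agent.Chevalley.Data.E7.tab ((orbE7 j).map Fin.val) (Cfsg.Agent.Chevalley.Data.E7.tab.simple 0) = Cfsg.Agent.Chevalley.Data.E7.tab.neg (Cfsg.Agent.Chevalley.Data.E7.tab.simple j)) := by
  decide +kernel

theorem fixE7_ok : ∀ i < chevE7.rank, ∀ r < Cfsg.Agent.Chevalley.Data.E7.tab.n, Cfsg.Agent.Chevalley.Data.E7.tab.refl i r = Cfsg.Agent.Chevalley.Data.E7.tab.neg r →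
    r = Cfsg.Agent.Chevalley.Data.E7.tab.simple i ∨ r = Cfsg.Agent.Chevalley.Data.E7.tab.neg (Cfsg.Agent.Chevalley.Data.E7.tab.simple i) := by
  decide +kernel

theorem negE7_ok : (∀ j : Fin 7, WeylGroup.actT Cfsg.Agent.Chevalley.Data.E7.tab ((List.replicate 9 CE7).flatten.map Fin.val) (Cfsg.Agent.Chevalley.Data.E7.tab.simple j) =
      Cfsg.Agent.Chevalley.Data.E7.tab.neg (Cfsg.Agent.Chevalley.Data.E7.tab.simple j)) ∧
    ∀ i j : Fin 7, WeylGroup.actT Cfsg.Agent.Chevalley.Data.E7.tab ((List.replicate 9 CE7).flatten.map Fin.val) (Cfsg.Agent.Chevalley.Data.E7.tab.refl i (Cfsg.Agent.Chevalley.Data.E7.tab.simple j)) =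
      Cfsg.Agent.Chevalley.Data.E7.tab.refl i (WeylGroup.actT Cfsg.Agent.Chevalley.Data.E7.tab ((List.replicate 9 CE7).flatten.map Fin.val) (Cfsg.Agent.Chevalley.Data.E7.tab.simple j)) := by
  decide +kernel

theorem centerE7 : Nat.card (Subgroup.center (CoxeterMatrix.E₇).Group) = 2 ∧
    Subgroup.center (CoxeterMatrix.E₇).Group ≤ Subgroup.zpowers ((List.finRange 7).map (CoxeterMatrix.E₇).simple).prod := by
  obtain ⟨e, he⟩ := CoxE7.exists_iso
  refine coxeter_center (D := chevE7) Cfsg.Agent.Chevalley.Types.E7.certified e he CE7 (center_of_cases Cfsg.Agent.Chevalley.Types.E7.certified CE7 9 negE7_ok.1 negE7_ok.2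
    (by decide) fun L hL => central_cases Cfsg.Agent.Chevalley.Types.E7.certified hL fixE7_ok (0 : Fin 7) (0 : Fin 7) orbE7 orbE7_ok
      ⟨fun h1 h2 => ?_, fun h1 h2 => ?_⟩)
  all_goals
    rw [h1] at h2
    first
      | exact Cert.Certified.neg_ne Cfsg.Agent.Chevalley.Types.E7.certified (Cert.Certified.simple_lt Cfsg.Agent.Chevalley.Types.E7.certified (i := 0) (by decide)) h2.symm
      | exact Cert.Certified.neg_ne Cfsg.Agent.Chevalley.Types.E7.certified (Cert.Certified.simple_lt Cfsg.Agent.Chevalley.Types.E7.certified (i := 0) (by decide)) h2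

/-! ### E8 -/

/-- All fundamental reflections in order. -/
abbrev CE8 : List (Fin 8) := List.finRange 8

/-- The words for the fundamental reflections. -/
def blocksE8 (j : Fin 8) : List (List (Fin 8)) :=
  ([[[0]],
    [CE8, CE8, [0], CE8, CE8, [0], CE8, CE8, CE8, [0], CE8.reverse, CE8.reverse, CE8.reverse, [0], CE8.reverse, CE8.reverse, [0], CE8.reverse, CE8.reverse],
    [CE8, [0], CE8.reverse],
    [CE8, CE8, CE8, CE8, [0], CE8, CE8, CE8, [0], CE8.reverse, CE8.reverse, CE8.reverse, [0], CE8.reverse, CE8.reverse, CE8.reverse, CE8.reverse],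
    [CE8, CE8, CE8, CE8, CE8, [0], CE8, CE8, CE8, [0], CE8.reverse, CE8.reverse, CE8.reverse, [0], CE8.reverse, CE8.reverse, CE8.reverse, CE8.reverse, CE8.reverse],
    [CE8, CE8, CE8, CE8, CE8, CE8, [0], CE8, CE8, CE8, [0], CE8.reverse, CE8.reverse, CE8.reverse, [0], CE8.reverse, CE8.reverse, CE8.reverse, CE8.reverse, CE8.reverse, CE8.reverse],
    [CE8, CE8, CE8, CE8, CE8, CE8, CE8, [0], CE8, CE8, CE8, [0], CE8.reverse, CE8.reverse, CE8.reverse, [0], CE8.reverse, CE8.reverse, CE8.reverse, CE8.reverse, CE8.reverse, CE8.reverse, CE8.reverse],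
    [CE8, CE8, CE8, CE8, CE8, CE8, CE8, CE8, [0], CE8, CE8, CE8, [0], CE8.reverse, CE8.reverse, CE8.reverse, [0], CE8.reverse, CE8.reverse, CE8.reverse, CE8.reverse, CE8.reverse, CE8.reverse, CE8.reverse, CE8.reverse]] : List (List (List (Fin 8)))).getD j []

theorem genE8_ok : (∀ j : Fin 8, ∀ b ∈ blocksE8 j, b = CE8 ∨ b = CE8.reverse ∨ ∃ t ∈ ([0] : List (Fin 8)), b = [t]) ∧
    ∀ j k : Fin 8, WeylGroup.actT Cfsg.Agent.Chevalley.Data.E8.tab ((blocksE8 j).flatten.map Fin.val) (Cfsg.Agent.Chevalley.Data.E8.tab.simple k) = Cfsg.Agent.Chevalley.Data.E8.tab.refl j (Cfsg.Agent.Chevalley.Data.E8.tab.simple k) := by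
  decide +kernel

theorem genE8 : ∃ S : Finset (CoxeterMatrix.E₈).Group, S.card = 1 ∧
    (∀ t ∈ S, ∃ (g : (CoxeterMatrix.E₈).Group) (i : Fin 8), t = g * (CoxeterMatrix.E₈).simple i * g⁻¹) ∧
    Subgroup.closure (({((List.finRange 8).map (CoxeterMatrix.E₈).simple).prod} : Set (CoxeterMatrix.E₈).Group) ∪ ↑S) = ⊤ := by
  obtain ⟨e, he⟩ := CoxE8.exists_iso
  exact coxeter_gen (D := chevE8) Cfsg.Agent.Chevalley.Types.E8.certified e he CE8 ([0] : List (Fin 8)) (show (([0] : List (Fin 8)) : List _).Nodup by decide) blocksE8 genE8_ok.1 genE8_ok.2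

/-- Words between the fundamental roots of one length. -/
def orbE8 (j : Fin 8) : List (Fin 8) :=
  ([[], [3,2,1,3,0,2], [0,2], [2,3,0,2], [3,4,2,3,0,2], [4,5,3,4,2,3,0,2], [5,6,4,5,3,4,2,3,0,2], [6,7,5,6,4,5,3,4,2,3,0,2]] : List (List (Fin 8))).getD j []

theorem orbE8_ok : ∀ j : Fin 8,
    (WeylGroup.actT Cfsg.Agent.Chevalley.Data.E8.tab ((orbE8 j).map Fin.val) (Cfsg.Agent.Chevalley.Data.E8.tab.simple 0) = Cfsg.Agent.Chevalley.Data.E8.tab.simple j ∨
        WeylGroup.actT Cfsg.Agent.Chevalley.Data.E8.tab ((orbE8 j).map Fin.val) (Cfsg.Agent.Chevalley.Data.E8.tab.simple 0) = Cfsg.Agent.Chevalley.Data.E8.tab.neg (Cfsg.Agent.Chevalley.Data.E8.tab.simple j)) ∨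
      (WeylGroup.actT Cfsg.Agent.Chevalley.Data.E8.tab ((orbE8 j).map Fin.val) (Cfsg.Agent.Chevalley.Data.E8.tab.simple 0) = Cfsg.Agent.Chevalley.Data.E8.tab.simple j ∨
        WeylGroup.actT Cfsg.Agent.Chevalley.Data.E8.tab ((orbE8 j).map Fin.val) (Cfsg.Agent.Chevalley.Data.E8.tab.simple 0) = Cfsg.Agent.Chevalley.Data.E8.tab.neg (Cfsg.Agent.Chevalley.Data.E8.tab.simple j)) := by
  decide +kernel

theorem fixE8_ok : ∀ i < chevE8.rank, ∀ r < Cfsg.Agent.Chevalley.Data.E8.tab.n, Cfsg.Agent.Chevalley.Data.E8.tab.refl i r = Cfsg.Agent.Chevalley.Data.E8.tab.neg r →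
    r = Cfsg.Agent.Chevalley.Data.E8.tab.simple i ∨ r = Cfsg.Agent.Chevalley.Data.E8.tab.neg (Cfsg.Agent.Chevalley.Data.E8.tab.simple i) := by
  decide +kernel

theorem negE8_ok : (∀ j : Fin 8, WeylGroup.actT Cfsg.Agent.Chevalley.Data.E8.tab ((List.replicate 15 CE8).flatten.map Fin.val) (Cfsg.Agent.Chevalley.Data.E8.tab.simple j) =
      Cfsg.Agent.Chevalley.Data.E8.tab.neg (Cfsg.Agent.Chevalley.Data.E8.tab.simple j)) ∧
    ∀ i j : Fin 8, WeylGroup.actT Cfsg.Agent.Chevalley.Data.E8.tab ((List.replicate 15 CE8).flatten.map Fin.val) (Cfsg.Agent.Chevalley.Data.E8.tab.refl i (Cfsg.Agent.Chevalley.Data.E8.tab.simple j)) =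
      Cfsg.Agent.Chevalley.Data.E8.tab.refl i (WeylGroup.actT Cfsg.Agent.Chevalley.Data.E8.tab ((List.replicate 15 CE8).flatten.map Fin.val) (Cfsg.Agent.Chevalley.Data.E8.tab.simple j)) := by
  decide +kernel

theorem centerE8 : Nat.card (Subgroup.center (CoxeterMatrix.E₈).Group) = 2 ∧
    Subgroup.center (CoxeterMatrix.E₈).Group ≤ Subgroup.zpowers ((List.finRange 8).map (CoxeterMatrix.E₈).simple).prod := by
  obtain ⟨e, he⟩ := CoxE8.exists_iso
  refine coxeter_center (D := chevE8) Cfsg.Agent.Chevalley.Types.E8.certified e he CE8 (center_of_cases Cfsg.Agent.Chevalley.Types.E8.certified CE8 15 negE8_ok.1 negE8_ok.2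
    (by decide) fun L hL => central_cases Cfsg.Agent.Chevalley.Types.E8.certified hL fixE8_ok (0 : Fin 8) (0 : Fin 8) orbE8 orbE8_ok
      ⟨fun h1 h2 => ?_, fun h1 h2 => ?_⟩)
  all_goals
    rw [h1] at h2
    first
      | exact Cert.Certified.neg_ne Cfsg.Agent.Chevalley.Types.E8.certified (Cert.Certified.simple_lt Cfsg.Agent.Chevalley.Types.E8.certified (i := 0) (by decide)) h2.symm
      | exact Cert.Certified.neg_ne Cfsg.Agent.Chevalley.Types.E8.certified (Cert.Certified.simple_lt Cfsg.Agent.Chevalley.Types.E8.certified (i := 0) (by decide)) h2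

end Cfsg.Agent.Chevalley.Types.CoxeterData
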